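import Cfsg.Agent.H103.GT.Coord
import Cfsg.Agent.H732.PU.Chain

/-!
# S5211 (E5c): `p ≥ 5`, essential subgroups containing `Z₃` and not contained in `Q_a`, `Q_b` (helper710)

* `inv_cent` : `{y ∈ A | [y, B] ≤ N}` is invariant if `A`, `B`, `N` are;
* `stE5c : StE5c`.
-/

set_option autoImplicit false

namespace Cfsg.Agent.H710.GT

open Cfsg Cfsg.Agent.H779.G2 Cfsg.Agent.H756.PU Cfsg.Agent.H103.GT

universe u

/-- `{y ∈ A | [y, B] ≤ N}` is invariant if `A`, `B`, `N` are -/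
theorem inv_cent {Ω : Type*} [Group Ω] {E : Subgroup Ω} {Γ : Subgroup (MulAut E)} {A B N M : Subgroup Ω}
    (hA : Inv Γ A) (hB : Inv Γ B) (hN : Inv Γ N)
    (hM : ∀ y, y ∈ M ↔ y ∈ A ∧ ∀ b ∈ B, y * b * y⁻¹ * b⁻¹ ∈ N) : Inv Γ M := by
  refine ⟨fun y hy => hA.1 ((hM y).1 hy).1, fun γ hγ e he => ?_⟩
  obtain ⟨h1, h2⟩ := (hM _).1 he
  refine (hM _).2 ⟨hA.2 γ hγ e h1, fun b hb => ?_⟩
  have hbE : b ∈ E := hB.1 hb
  have h3 : ((γ⁻¹ ⟨b, hbE⟩ : E) : Ω) ∈ B := hB.2 γ⁻¹ (inv_mem hγ) ⟨b, hbE⟩ hb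
  have h4 := h2 _ h3
  have h5 := hN.2 γ hγ (e * (γ⁻¹ ⟨b, hbE⟩) * e⁻¹ * (γ⁻¹ ⟨b, hbE⟩)⁻¹) h4
  have h6 : γ (γ⁻¹ (⟨b, hbE⟩ : E)) = ⟨b, hbE⟩ := MulAut.apply_inv_self E γ ⟨b, hbE⟩
  rw [map_mul, map_mul, map_mul, map_inv, map_inv, h6] at h5
  exact h5

theorem inv_self {Ω : Type*} [Group Ω] {E : Subgroup Ω} (Γ : Subgroup (MulAut E)) : Inv Γ E :=
  ⟨le_rfl, fun γ _ e _ => (γ e).2⟩

theorem inv_bot {Ω : Type*} [Group Ω] {E : Subgroup Ω} (Γ : Subgroup (MulAut E)) : Inv Γ (⊥ : Subgroup Ω) := by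
  refine ⟨bot_le, fun γ _ e he => ?_⟩
  rw [Subgroup.mem_bot] at he ⊢
  have h1 : e = 1 := Subtype.ext he
  rw [h1, map_one]
  rfl

theorem cm_one {Ω : Type*} [Group Ω] {x y : Ω} : x * y * x⁻¹ * y⁻¹ ∈ (⊥ : Subgroup Ω) ↔ x * y = y * x := by
  rw [Subgroup.mem_bot, mul_inv_eq_one, mul_inv_eq_iff_eq_mul]

variable {K : Type u} [Field K]

theorem ne_zero_of {p n m : ℕ} (h : HypG K p n) (hm : 0 < m) (hmp : m < p) : (m : K) ≠ 0 := by
  intro h0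
  have := h.char
  have h1 := (CharP.cast_eq_zero_iff K p m).1 h0
  exact absurd (Nat.le_of_dvd hm h1) (by omega)

/-- an element with both coordinates nonzero -/
theorem exists_both {E : Subgroup (GU K)} (hb : ¬ E ≤ Qb K) (ha : ¬ E ≤ Qa K) :
    ∃ x ∈ E, x.a ≠ 0 ∧ x.b ≠ 0 := by
  obtain ⟨y, hy, hya⟩ := SetLike.not_le_iff_exists.1 ha
  obtain ⟨z, hz, hzb⟩ := SetLike.not_le_iff_exists.1 hb
  have hya' : y.a ≠ 0 := hya
  have hzb' : z.b ≠ 0 := hzb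
  by_cases h1 : y.b = 0
  · by_cases h2 : z.a = 0
    · refine ⟨y * z, mul_mem hy hz, ?_, ?_⟩
      · rw [GU.mul_a, h2, add_zero]; exact hya'
      · rw [GU.mul_b, h1, zero_add]; exact hzb'
    · exact ⟨z, hz, h2, hzb'⟩
  · exact ⟨y, hy, hya', h1⟩

/-- (E5c) `p ≥ 5`, `Z₃ ≤ E ≰ Q_a, Q_b` -/
theorem stE5c : StE5c.{u} := by
  intro K _ p n hG h5 E Γ hE hZ3 hb ha
  have h2 : (2 : K) ≠ 0 := by simpa using ne_zero_of hG (m := 2) (by norm_num) (by omega)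
  have h3 : (3 : K) ≠ 0 := by simpa using ne_zero_of hG (m := 3) (by norm_num) (by omega)
  obtain ⟨x, hx, xa, xb⟩ := exists_both hb ha
  have iE := inv_self Γ (E := E)
  -- the centre
  have i1 : Inv Γ (Z1 K) := by
    refine inv_cent iE iE (inv_bot Γ) fun y => ⟨fun hy => ?_, fun hy => ?_⟩
    · exact ⟨hZ3 (Z1_le_Z3 hy), fun b _ => cm_one.2 (comm_Z1 b hy).symm⟩
    · obtain ⟨hyE, hc⟩ := hy
      have hy3 : y ∈ Z3 K := (cent_Z3 h3).1 fun z hz => cm_one.1 (hc z (hZ3 hz))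
      exact mem_Z1_of_comm h2 h3 xa xb (Z3_le_Z4 hy3) (cm_one.1 (hc x hx)).symm
  -- the second centre
  have i2 : Inv Γ (Z2 K) := by
    refine inv_cent iE iE i1 fun y => ⟨fun hy => ?_, fun hy => ?_⟩
    · exact ⟨hZ3 (Z2_le_Z3 hy), fun b _ => com_Z2_top y hy b trivial⟩
    · obtain ⟨hyE, hc⟩ := hy
      have e1 := mem_Z1.1 (hc _ (hZ3 (x4_mem 1)))
      have e2 := mem_Z1.1 (hc x hx)
      rw [cm_a, cm_b, cm_c, cm_d, cm_e] at e1 e2
      obtain ⟨-, -, -, -, e3⟩ := e1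
      simp only [x4] at e3
      have ya : y.a = 0 := by
        apply mul_left_cancel₀ h3
        linear_combination -e3
      obtain ⟨-, -, f1, f2, f3⟩ := e2
      rw [ya] at f1 f2 f3
      have yb : y.b = 0 := by
        apply mul_left_cancel₀ xa
        linear_combination f1
      rw [yb] at f2 f3
      have yc : y.c = 0 := by
        apply mul_left_cancel₀ (mul_ne_zero h2 xa)
        linear_combination f2
      rw [yc] at f3
      have yd : y.d = 0 := by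
        apply mul_left_cancel₀ (mul_ne_zero h3 xa)
        linear_combination f3
      exact ⟨ya, yb, yc, yd⟩
  -- `E ∩ Q_b`
  have ib : Inv Γ (E ⊓ Qb K) := by
    refine inv_cent iE i2 (inv_bot Γ) fun y => ⟨fun hy => ?_, fun hy => ?_⟩
    · exact ⟨hy.1, fun b hb' => cm_one.2 (comm_Qb_Z2 hy.2 hb')⟩
    · exact ⟨hy.1, cent_Z2.1 fun z hz => cm_one.1 (hy.2 z hz)⟩
  -- `Z₃`
  have i3 : Inv Γ (Z3 K) := by
    refine inv_cent ib iE i2 fun y => ⟨fun hy => ?_, fun hy => ?_⟩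
    · exact ⟨⟨hZ3 hy, Z3_le_Qb hy⟩, fun b _ => com_Z3_top y hy b trivial⟩
    · obtain ⟨⟨hyE, hyb⟩, hc⟩ := hy
      have yb : y.b = 0 := hyb
      have e2 := mem_Z2.1 (hc x hx)
      rw [cm_a, cm_b, cm_c, cm_d, yb] at e2
      obtain ⟨-, -, f1, f2⟩ := e2
      have ya : y.a = 0 := by
        apply mul_left_cancel₀ xb
        linear_combination -f1
      rw [ya] at f2
      have yc : y.c = 0 := by
        apply mul_left_cancel₀ (mul_ne_zero h2 xa)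
        linear_combination f2
      exact ⟨ya, yb, yc⟩
  have h4 : Z4 K ≤ E := by
    refine H732.PU.stChain hE (Z2 K) (Z3 K) (Z3 K) i2 i3 i3 Z2_le_Z3 le_rfl (Z4 K) le_top ?_ ?_ ?_ ?_
    · exact fun y hy e _ => com_Z4_top y hy e trivial
    · exact fun y hy e _ => com_Z4_top y hy e trivial
    · exact fun y _ e he => com_top_Z3 y trivial e he
    · exact fun y hy m hm => comm_Qb_Z2 (Z4_le_Qb hy) hm
  have h6 : Qb K ≤ E := by
    refine H732.PU.stChain hE (Z2 K) (Z3 K) (E ⊓ Qb K) i2 i3 ib Z2_le_Z3 (le_inf hZ3 Z3_le_Qb) (Qb K) le_top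
      ?_ ?_ ?_ ?_
    · intro y _ e _
      have h7 : y * e * y⁻¹ * e⁻¹ ∈ Z4 K := com_top_top y trivial e trivial
      exact ⟨h4 h7, Z4_le_Qb h7⟩
    · exact fun y hy e he => com_Qb y hy e he.2
    · exact fun y hy e he => com_Qb_Z3 y hy e he
    · exact fun y hy m hm => comm_Qb_Z2 hy hm
  refine ⟨h6, ?_⟩
  rwa [inf_eq_right.2 h6] at ib

end Cfsg.Agent.H710.GT
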